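import Cfsg.Agent.InvChar68.Signalizer
import Cfsg.Agent.SFT45.Functor

/-!
The odd subgroup generated by the cores of centralizers when the 2-locals are constrained (S3110).
-/

set_option autoImplicit false

namespace Cfsg.Agent.SigDown91

open Subgroup SFT45

universe u

variable {G : Type u} [Group G] [Finite G]

/-- The signalizer functor theorem for the prime two. -/
def TwoSFT (G : Type u) [Group G] : Prop :=
  ∀ (A : Subgroup G) (θ : G → Subgroup G), Cfsg.IsElementaryAbelian 2 A → 2 ^ 3 ≤ Nat.card A →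
    Cfsg.IsSolvableSignalizerFunctor 2 A θ → Completable 2 A θ

/-- `O(C(i))`. -/
local notation "θ" => Cfsg.centralizerPPrimeCore (G := G) 2

open InvChar68.Signalizer (cpc_le cpc_odd le_normalizer_cpc conj_mem_cpc)

/-- Balance in a constrained centralizer, for an arbitrary 2-element. -/
theorem balance {i j : G} (hi : ∃ n : ℕ, orderOf i = 2 ^ n)
    (hC : Cfsg.IsPConstrained 2 ↥(centralizer ({j} : Set G))) (hij : Commute i j) :
    θ i ⊓ centralizer ({j} : Set G) ≤ θ j := by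
  set iC : centralizer ({j} : Set G) := ⟨i, mem_centralizer_singleton_iff.mpr hij.eq⟩ with hiC
  obtain ⟨n, hn⟩ := hi
  have hio : orderOf iC = 2 ^ n := by
    rw [← Subgroup.orderOf_coe]
    exact hn
  have hP : IsPGroup 2 (zpowers iC) := IsPGroup.of_card (n := n) (by rw [Nat.card_zpowers, hio])
  set H := centralizer ((zpowers iC : Subgroup _) : Set (centralizer ({j} : Set G))) with hHdef
  obtain ⟨hcore, -⟩ := PLocalB.local_facts hC (zpowers iC) H hP le_rfl
    (centralizer_le_normalizer _) (normal_subgroupOf_of_le_normalizer (by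
      rw [Subgroup.le_normalizer_iff]
      intro g hg x hx
      rw [hHdef, mem_centralizer_iff] at hx ⊢
      intro z hz
      have h1 : g⁻¹ * z * g ∈ zpowers iC :=
        (mem_normalizer_iff''.mp hg z).mp hz
      have h2 := hx _ h1
      calc z * (g * x * g⁻¹) = g * ((g⁻¹ * z * g) * x) * g⁻¹ := by group
        _ = g * (x * (g⁻¹ * z * g)) * g⁻¹ := by rw [h2]
        _ = g * x * g⁻¹ * z := by group))
  let K : Subgroup ↥H := ((θ i).subgroupOf (centralizer ({j} : Set G))).subgroupOf H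
  have hKn : K.Normal := by
    constructor
    intro k hk h
    have hhi : ((h : centralizer ({j} : Set G)) : G) ∈ centralizer ({i} : Set G) := by
      have h1 := mem_centralizer_iff.mp h.2 iC (mem_zpowers iC)
      rw [mem_centralizer_singleton_iff]
      exact (congrArg Subtype.val h1).symm
    exact (mem_normalizer_iff.mp (le_normalizer_cpc i hhi) _).mp hk
  have hKo : (Nat.card K).Coprime 2 := Nat.coprime_two_right.mpr ((cpc_odd i).of_dvd_nat
    ((card_comap_dvd_of_injective _ _ (subtype_injective _)).trans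
      (card_comap_dvd_of_injective _ _ (subtype_injective _))))
  have hKle : K ≤ Cfsg.pPrimeCore 2 ↥H := Thompson.le_pPrimeCore hKn hKo
  rintro x ⟨hxi, hxj⟩
  have hxH : (⟨x, hxj⟩ : centralizer ({j} : Set G)) ∈ H := by
    rw [hHdef, mem_centralizer_iff]
    intro z hz
    obtain ⟨k, rfl⟩ := mem_zpowers_iff.mp hz
    exact (Commute.zpow_left (show Commute iC ⟨x, hxj⟩ from
      Subtype.ext (mem_centralizer_singleton_iff.mp (cpc_le i hxi)).symm) k).eq
  have h := hKle (show (⟨⟨x, hxj⟩, hxH⟩ : ↥H) ∈ K from hxi)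
  rw [hcore] at h
  exact ⟨⟨x, hxj⟩, h, rfl⟩

/-- `V` is elementary abelian of order at least four. -/
def IsBig (V : Subgroup G) : Prop := Cfsg.IsElementaryAbelian 2 V ∧ 4 ≤ Nat.card V

/-- The subgroup generated by the cores at the nontrivial elements of `B`. -/
def gen (B : Subgroup G) : Subgroup G :=
  ⨆ b : {b : G // b ∈ B ∧ b ≠ 1}, Cfsg.centralizerPPrimeCore 2 (b : G)

theorem le_gen {B : Subgroup G} {b : G} (hb : b ∈ B) (hb1 : b ≠ 1) : θ b ≤ gen B :=
  le_iSup (fun b : {b : G // b ∈ B ∧ b ≠ 1} => Cfsg.centralizerPPrimeCore 2 (b : G)) ⟨b, hb, hb1⟩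

theorem orderOf_of_sq {a : G} (h : a ^ 2 = 1) (h1 : a ≠ 1) : orderOf a = 2 :=
  orderOf_eq_prime h h1

variable (hcon : ∀ j : G, orderOf j = 2 → Cfsg.IsPConstrained 2 ↥(centralizer ({j} : Set G)))
include hcon

/-- A four-group acting on `θ a` gives generation. -/
theorem cpc_le_gen {a : G} (ha : ∃ n : ℕ, orderOf a = 2 ^ n) {V : Subgroup G} (hV : IsBig V)
    (hc : ∀ v ∈ V, Commute a v) : θ a ≤ gen V := by
  have hn : V ≤ normalizer (θ a : Set G) := fun v hv =>
    le_normalizer_cpc a (mem_centralizer_singleton_iff.mpr (hc v hv).eq.symm)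
  refine le_of_forall_hyp hV.1 hn
    (Nat.coprime_two_left.mpr (cpc_odd a)) fun B hB => ?_
  have h2 : 1 < Nat.card B := by
    have := hV.2
    have := hB.2
    omega
  obtain ⟨⟨b, hb⟩, hb1⟩ := (Subgroup.ne_bot_iff_exists_ne_one).mp
    (one_lt_card_iff_ne_bot B |>.mp h2)
  have hb1' : b ≠ 1 := fun h => hb1 (Subtype.ext h)
  refine le_trans (inf_le_inf_left _ (centralizer_le (Set.singleton_subset_iff.mpr hb))) ?_
  exact (balance ha (hcon b (orderOf_of_sq (hV.1.2 b (hB.1 hb)) hb1')) (hc b (hB.1 hb))).trans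
    (le_gen (hB.1 hb) hb1')

omit hcon in
/-- An involution acting on an elementary abelian group of order at least eight fixes four points. -/
theorem four_le_fixed {Ω : Subgroup G} (hΩ : Cfsg.IsElementaryAbelian 2 Ω)
    (h8 : 8 ≤ Nat.card Ω) {b : G} (hb : b ^ 2 = 1) (hn : ∀ x ∈ Ω, b * x * b⁻¹ ∈ Ω) :
    4 ≤ Nat.card (Ω ⊓ centralizer ({b} : Set G) : Subgroup G) := by
  haveI := hΩ.1
  have hinv : ∀ x : Ω, x⁻¹ = x := fun x => inv_eq_of_mul_eq_one_right
    (Subtype.ext (by simpa [pow_two] using hΩ.2 x x.2))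
  let f : Ω →* Ω :=
    { toFun := fun x => x * ⟨b * x * b⁻¹, hn x x.2⟩
      map_one' := by ext; simp
      map_mul' := fun x y => by
        ext
        have hc : (y : G) * (b * x * b⁻¹) = (b * x * b⁻¹) * y :=
          congrArg Subtype.val (mul_comm' y ⟨b * x * b⁻¹, hn x x.2⟩)
        simp only [Subgroup.coe_mul]
        calc (x : G) * y * (b * (x * y) * b⁻¹) = x * (y * (b * x * b⁻¹)) * (b * y * b⁻¹) := by group
          _ = x * (b * x * b⁻¹ * y) * (b * y * b⁻¹) := by rw [hc]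
          _ = _ := by group }
  have hker : f.ker = (Ω ⊓ centralizer ({b} : Set G)).subgroupOf Ω := by
    ext x
    rw [MonoidHom.mem_ker, mem_subgroupOf, mem_inf, mem_centralizer_singleton_iff]
    change x * ⟨b * x * b⁻¹, hn x x.2⟩ = 1 ↔ _
    rw [mul_eq_one_iff_inv_eq, hinv, Subtype.ext_iff]
    simp only [SetLike.coe_mem, true_and]
    constructor
    · intro h
      exact eq_mul_inv_iff_mul_eq.mp h
    · intro h
      exact eq_mul_inv_iff_mul_eq.mpr h
  have hrange : f.range ≤ f.ker := by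
    rintro _ ⟨x, rfl⟩
    rw [MonoidHom.mem_ker]
    ext
    change (x : G) * (b * x * b⁻¹) * (b * (x * (b * x * b⁻¹)) * b⁻¹) = 1
    have hb' : b * (b * (x : G) * b⁻¹) * b⁻¹ = x := by
      calc b * (b * (x : G) * b⁻¹) * b⁻¹ = b ^ 2 * x * (b ^ 2)⁻¹ := by simp only [pow_two]; group
        _ = x := by rw [hb]; group
    have hx : (x : G) * x = 1 := by simpa [pow_two] using hΩ.2 x x.2
    have hy : b * (x : G) * b⁻¹ * (b * x * b⁻¹) = 1 := by
      calc b * (x : G) * b⁻¹ * (b * x * b⁻¹) = b * (x * x) * b⁻¹ := by group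
        _ = 1 := by rw [hx]; group
    calc (x : G) * (b * x * b⁻¹) * (b * (x * (b * x * b⁻¹)) * b⁻¹)
        = x * ((b * x * b⁻¹) * (b * x * b⁻¹)) * (b * (b * x * b⁻¹) * b⁻¹) := by group
      _ = 1 := by rw [hy, hb', mul_one, hx]
  have h1 : Nat.card Ω = Nat.card f.ker * Nat.card f.range := by
    rw [← Subgroup.index_ker, Subgroup.card_mul_index]
  have h2 : Nat.card f.range ≤ Nat.card f.ker := Subgroup.card_le_of_le hrange
  have h3 : Nat.card f.ker = Nat.card (Ω ⊓ centralizer ({b} : Set G) : Subgroup G) := by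
    rw [hker]
    exact Nat.card_congr (Subgroup.subgroupOfEquivOfLe inf_le_left).toEquiv
  have h4 : ∃ k : ℕ, Nat.card f.ker = 2 ^ k := by
    refine IsPGroup.iff_card.mp (IsPGroup.to_subgroup ?_ _)
    exact Signal38.isPGroup_of_elementary hΩ
  obtain ⟨k, hk⟩ := h4
  rw [← h3, hk]
  rcases lt_or_ge k 2 with hk2 | hk2
  · have : Nat.card f.ker ≤ 2 := by rw [hk]; interval_cases k <;> simp
    nlinarith
  · exact le_trans (by norm_num) (Nat.pow_le_pow_right (by norm_num : 1 ≤ 2) hk2)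

omit hcon in
/-- A pair of distinct commuting involutions inside `K` gives a four-group inside `K`. -/
theorem exists_big {K : Subgroup G} (u v : G) (hu : u ^ 2 = 1) (hv : v ^ 2 = 1) (hu1 : u ≠ 1)
    (hv1 : v ≠ 1) (huv : u ≠ v) (hc : Commute u v) (huK : u ∈ K) (hvK : v ∈ K) :
    ∃ V : Subgroup G, IsBig V ∧ V ≤ K ∧ u ∈ V ∧ v ∈ V ∧
      ∀ g : G, Commute g u → Commute g v → ∀ x ∈ V, Commute g x := by
  set V := Subgroup.closure ({u, v} : Set G) with hV
  have huV : u ∈ V := Subgroup.subset_closure (by simp)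
  have hvV : v ∈ V := Subgroup.subset_closure (by simp)
  have hcomm : ∀ g : G, Commute g u → Commute g v → ∀ x ∈ V, Commute g x := by
    intro g hgu hgv x hx
    induction hx using Subgroup.closure_induction with
    | mem x hx => rcases hx with rfl | rfl; exacts [hgu, hgv]
    | one => exact Commute.one_right g
    | mul x y _ _ hx hy => exact hx.mul_right hy
    | inv x _ hx => exact hx.inv_right
  have hab : ∀ x ∈ V, ∀ y ∈ V, Commute x y := fun x hx y hy =>
    hcomm x (hcomm u (Commute.refl u) hc x hx).symm (hcomm v hc.symm (Commute.refl v) x hx).symm y hy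
  refine ⟨V, ⟨⟨⟨⟨fun x y => Subtype.ext (hab x x.2 y y.2).eq⟩⟩, fun x hx => ?_⟩, ?_⟩,
    (Subgroup.closure_le K).mpr (by intro z hz; rcases hz with rfl | rfl <;> assumption),
    huV, hvV, hcomm⟩
  · induction hx using Subgroup.closure_induction with
    | mem x hx => rcases hx with rfl | rfl <;> assumption
    | one => simp
    | mul x y hxV hyV hx hy => rw [(hab x hxV y hyV).mul_pow, hx, hy, one_mul]
    | inv x _ hx => rw [inv_pow, hx, inv_one]
  · have huv1 : u * v ≠ 1 := fun h => huv (by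
      rw [mul_eq_one_iff_eq_inv] at h
      rw [h]
      exact inv_eq_of_mul_eq_one_right (by rw [← pow_two]; exact hv))
    classical
    have hs : ({1, u, v, u * v} : Finset G).card = 4 := by
      rw [Finset.card_insert_of_notMem, Finset.card_insert_of_notMem,
        Finset.card_insert_of_notMem, Finset.card_singleton] <;>
        simp [hu1, hv1, huv, Ne.symm hu1, Ne.symm hv1, Ne.symm huv1]
    rw [← hs, ← Nat.card_eq_finsetCard]
    refine Nat.card_le_card_of_injective (fun x => ⟨x.1, ?_⟩) fun x y e => Subtype.ext (congrArg (fun z : V => (z : G)) e)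
    have := x.2
    simp only [Finset.mem_insert, Finset.mem_singleton] at this
    rcases this with h | h | h | h <;> rw [h]
    exacts [one_mem _, huV, hvV, mul_mem huV hvV]

omit hcon in
theorem exists_ne_ne {K : Subgroup G} (h : 4 ≤ Nat.card K) (u : G) :
    ∃ v ∈ K, v ≠ 1 ∧ v ≠ u := by
  classical
  by_contra hne
  push Not at hne
  have hs : (K : Set G) ⊆ ({1, u} : Set G) := fun x hx => by
    by_cases hx1 : x = 1
    · exact Or.inl hx1
    · exact Or.inr (hne x hx hx1)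
  have h2 := Set.ncard_le_ncard hs (Set.toFinite _)
  have h3 : ({1, u} : Set G).ncard ≤ 2 := (Set.ncard_insert_le _ _).trans (by simp)
  have h4 : (K : Set G).ncard = Nat.card K := (Nat.card_coe_set_eq _).symm
  omega

omit hcon in
theorem exists_fixed {Ω S : Subgroup G} (hS : IsPGroup 2 S) (hΩ : Cfsg.IsElementaryAbelian 2 Ω)
    (h8 : 8 ≤ Nat.card Ω) (hΩS : Ω ≤ S) (hnS : ∀ s ∈ S, ∀ x ∈ Ω, s * x * s⁻¹ ∈ Ω) :
    ∃ v ∈ Ω, v ≠ 1 ∧ ∀ s ∈ S, Commute v s := by
  haveI : (Ω.subgroupOf S).Normal := ⟨fun x hx s => hnS s s.2 x hx⟩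
  have hne : Ω.subgroupOf S ≠ ⊥ := by
    intro h
    have := Nat.card_congr (Subgroup.subgroupOfEquivOfLe hΩS).toEquiv
    rw [h, Subgroup.card_bot] at this
    omega
  obtain ⟨⟨v, hv⟩, hv1⟩ := (Subgroup.ne_bot_iff_exists_ne_one).mp
    (PGroup.inf_center_ne_bot hS hne)
  exact ⟨v, hv.1, fun h => hv1 (Subtype.ext (Subtype.ext h)), fun s hs =>
    (congrArg Subtype.val (Subgroup.mem_center_iff.mp hv.2 ⟨s, hs⟩)).symm⟩

/-- The key statement: over a normal elementary abelian subgroup of order at least eight. -/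
theorem gen_eq {Ω S : Subgroup G} (hS : IsPGroup 2 S) (hΩ : Cfsg.IsElementaryAbelian 2 Ω)
    (h8 : 8 ≤ Nat.card Ω) (hΩS : Ω ≤ S) (hnS : ∀ s ∈ S, ∀ x ∈ Ω, s * x * s⁻¹ ∈ Ω)
    {B : Subgroup G} (hBS : B ≤ S) (hB : ¬ Cfsg.PRankLE 2 1 ↥B) : gen Ω = gen B := by
  have hcΩ : ∀ x ∈ Ω, ∀ y ∈ Ω, Commute x y := fun x hx y hy => by
    haveI := hΩ.1
    exact congrArg Subtype.val (mul_comm' (⟨x, hx⟩ : Ω) ⟨y, hy⟩)
  have hpow : ∀ b ∈ S, ∃ n : ℕ, orderOf b = 2 ^ n := fun b hb => by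
    obtain ⟨n, hn⟩ := (IsPGroup.iff_orderOf.mp hS) ⟨b, hb⟩
    exact ⟨n, by rw [← hn, ← Subgroup.orderOf_coe]⟩
  have hΩpow : ∀ x ∈ Ω, x ≠ 1 → ∃ n : ℕ, orderOf x = 2 ^ n := fun x hx hx1 =>
    ⟨1, by rw [pow_one]; exact orderOf_of_sq (hΩ.2 x hx) hx1⟩
  have hfix : ∀ b ∈ S, b ^ 2 = 1 → 4 ≤ Nat.card (Ω ⊓ centralizer ({b} : Set G) : Subgroup G) :=
    fun b hb h2 => four_le_fixed hΩ h8 h2 (hnS b hb)
  have hfour : ∀ b ∈ S, b ^ 2 = 1 → ∃ V : Subgroup G, IsBig V ∧ V ≤ Ω ∧ ∀ v ∈ V, Commute b v := by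
    intro b hb h2
    obtain ⟨u, hu, hu1, -⟩ := exists_ne_ne (hfix b hb h2) 1
    obtain ⟨v, hv, hv1, hvu⟩ := exists_ne_ne (hfix b hb h2) u
    obtain ⟨V, hV, hVK, -⟩ := exists_big (K := Ω ⊓ centralizer ({b} : Set G)) u v (hΩ.2 u hu.1)
      (hΩ.2 v hv.1) hu1 hv1 (Ne.symm hvu) (hcΩ u hu.1 v hv.1) hu hv
    exact ⟨V, hV, hVK.trans inf_le_left, fun x hx =>
      (mem_centralizer_singleton_iff.mp (hVK hx).2).symm⟩
  have hmono : ∀ {V : Subgroup G}, V ≤ Ω → gen V ≤ gen Ω := fun {V} h =>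
    iSup_le fun ⟨v, hv, hv1⟩ => le_gen (h hv) hv1
  refine le_antisymm ?_ ?_
  · -- the hard inclusion
    unfold Cfsg.PRankLE at hB
    push Not at hB
    obtain ⟨A, hA, hAe, hAc⟩ := hB
    rw [pow_one] at hAc
    have h4 : 4 ≤ Nat.card A := by
      obtain ⟨n, hn⟩ := IsPGroup.iff_card.mp ((hS.to_le hBS).to_subgroup A)
      rw [hn] at hAc ⊢
      have : 2 ≤ n := by
        by_contra h; push Not at h; interval_cases n <;> simp at hAc
      exact le_trans (by norm_num) (Nat.pow_le_pow_right (by norm_num : 1 ≤ 2) this)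
    set B0 := A.map B.subtype with hB0
    have hB0B : B0 ≤ B := map_subtype_le _
    have hB0e : ∀ x ∈ B0, x ^ 2 = 1 := by
      rintro _ ⟨y, hy, rfl⟩
      rw [← map_pow, hAe y hy, map_one]
    have hB0c : ∀ x ∈ B0, ∀ y ∈ B0, Commute x y := by
      rintro _ ⟨x, hx, rfl⟩ _ ⟨y, hy, rfl⟩
      haveI := hA
      exact congrArg (fun z : A => ((z : B) : G)) (mul_comm' (⟨x, hx⟩ : A) ⟨y, hy⟩)
    have hB04 : 4 ≤ Nat.card B0 := by
      rw [hB0, card_map_of_injective B.subtype_injective]; exact h4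
    have hbig : IsBig B0 :=
      ⟨⟨⟨⟨fun x y => Subtype.ext (hB0c x x.2 y y.2).eq⟩⟩, hB0e⟩, hB04⟩
    have hgB : gen B0 ≤ gen B := iSup_le fun ⟨v, hv, hv1⟩ => le_gen (hB0B hv) hv1
    refine le_trans ?_ hgB
    refine iSup_le fun ⟨c, hc, hc1⟩ => ?_
    by_cases hBΩ : B0 ≤ Ω
    · exact cpc_le_gen hcon (hΩpow c hc hc1) hbig fun v hv => hcΩ c hc v (hBΩ hv)
    obtain ⟨b, hb, hbΩ⟩ := SetLike.not_le_iff_exists.mp hBΩ
    have hb1 : b ≠ 1 := fun h => hbΩ (h ▸ one_mem Ω)
    obtain ⟨v, hvΩ, hv1, hvS⟩ := exists_fixed hS hΩ h8 hΩS hnS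
    have hvc : ∀ x ∈ B0, Commute v x := fun x hx => hvS x (hBS (hB0B hx))
    obtain ⟨V, hV, hVΩ, hVc⟩ := hfour b (hBS (hB0B hb)) (hB0e b hb)
    refine (cpc_le_gen hcon (hΩpow c hc hc1) hV fun x hx => hcΩ c hc x (hVΩ hx)).trans ?_
    refine iSup_le fun ⟨d, hd, hd1⟩ => ?_
    obtain ⟨U, hU, -, -, -, hUc⟩ := exists_big (K := (⊤ : Subgroup G)) b v (hB0e b hb)
      (hΩ.2 v hvΩ) hb1 hv1 (fun h => hbΩ (h ▸ hvΩ)) (hvc b hb).symm trivial trivial
    refine (cpc_le_gen hcon (hΩpow d (hVΩ hd) hd1) hU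
      (hUc d (hVc d hd).symm (hcΩ d (hVΩ hd) v hvΩ))).trans ?_
    refine iSup_le fun ⟨x, hx, hx1⟩ => ?_
    refine cpc_le_gen hcon ⟨1, by rw [pow_one]; exact orderOf_of_sq (hU.1.2 x hx) hx1⟩ hbig
      fun y hy => ?_
    exact ((hUc y (hB0c y hy b hb) (hvc y hy).symm) x hx).symm
  · refine iSup_le fun ⟨b, hb, hb1⟩ => ?_
    obtain ⟨n, hn⟩ := hpow b (hBS hb)
    have hn0 : n ≠ 0 := fun h => hb1 (orderOf_eq_one_iff.mp (by rw [hn, h, pow_zero]))
    set t := b ^ (2 ^ (n - 1)) with ht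
    have hto : orderOf t = 2 := by
      rw [ht, orderOf_pow' _ (by positivity), hn,
        Nat.gcd_eq_right (pow_dvd_pow 2 (by omega)), Nat.pow_div (by omega) (by norm_num),
        show n - (n - 1) = 1 by omega, pow_one]
    have htS : t ∈ S := pow_mem (hBS hb) _
    obtain ⟨V, hV, hVΩ, hVc⟩ := hfour t htS (by rw [← hto]; exact pow_orderOf_eq_one t)
    refine le_trans ?_ ((cpc_le_gen hcon ⟨1, by rw [pow_one]; exact hto⟩ hV hVc).trans (hmono hVΩ))
    exact le_trans (le_inf le_rfl ((cpc_le b).trans (fun x hx =>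
      mem_centralizer_singleton_iff.mpr ((Commute.pow_right
        (show Commute x b from mem_centralizer_singleton_iff.mp hx) _).eq))))
      (balance ⟨n, hn⟩ (hcon t hto) (Commute.pow_right (Commute.refl b) _))

omit hcon in
/-- S3110, given the signalizer functor theorem for the prime two and solvability in odd order. -/
theorem exists_generated (hSFT : TwoSFT G)
    (hodd : ∀ H : Subgroup G, Odd (Nat.card H) → Group.IsSolvable H)
    (h2c : ∀ T : Subgroup G, IsPGroup 2 T → T ≠ ⊥ → Cfsg.IsPConstrained 2 ↥(Subgroup.normalizer (T : Set G)))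
    (S : Sylow 2 G) (A : Subgroup ↥(S : Subgroup G)) (hAn : A.Normal) (hAab : IsMulCommutative ↥A)
    (hA3 : ¬ Cfsg.PRankLE 2 2 ↥A) (S' : Sylow 2 G) :
    ∃ W : Subgroup G, Odd (Nat.card ↥W) ∧
      ∀ B : Subgroup G, B ≤ (S' : Subgroup G) → ¬ Cfsg.PRankLE 2 1 ↥B →
        W = (⨆ b : {b : G // b ∈ B ∧ b ≠ 1}, Cfsg.centralizerPPrimeCore 2 (b : G)) ∧
        Subgroup.normalizer (B : Set G) ≤ Subgroup.normalizer (W : Set G) := by
  classical
  haveI := hAn; haveI := hAab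
  have hcon : ∀ j : G, orderOf j = 2 → Cfsg.IsPConstrained 2 ↥(centralizer ({j} : Set G)) := by
    intro j hj
    rw [← Class49.normalizer_zpowers_of_orderOf_two hj]
    refine h2c _ (IsPGroup.of_card (n := 1) (by rw [Nat.card_zpowers, hj, pow_one])) ?_
    intro h
    rw [zpowers_eq_bot] at h
    rw [h, orderOf_one] at hj
    omega
  obtain ⟨g, hg⟩ := MulAction.exists_smul_eq G S S'
  have hmap : (S' : Subgroup G) = (S : Subgroup G).map (MulAut.conj g).toMonoidHom := by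
    rw [← hg, Sylow.coe_subgroup_smul]; rfl
  let Ω₁ : Subgroup ↥(S : Subgroup G) :=
    { carrier := {x | x ∈ A ∧ x ^ 2 = 1}
      one_mem' := ⟨one_mem A, one_pow _⟩
      mul_mem' := fun {x y} hx hy => ⟨mul_mem hx.1 hy.1, by
        rw [(show Commute x y from congrArg Subtype.val (mul_comm' (⟨x, hx.1⟩ : A) ⟨y, hy.1⟩)).mul_pow,
          hx.2, hy.2, one_mul]⟩
      inv_mem' := fun {x} hx => ⟨inv_mem hx.1, by rw [inv_pow, hx.2, inv_one]⟩ }
  set f : ↥(S : Subgroup G) →* G := (MulAut.conj g).toMonoidHom.comp (S : Subgroup G).subtype with hf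
  have hfi : Function.Injective f := (MulAut.conj g).injective.comp Subtype.val_injective
  set Ω := Ω₁.map f with hΩdef
  have hΩS : Ω ≤ S' := by
    rintro _ ⟨x, -, rfl⟩
    rw [hmap]
    exact ⟨x, x.2, rfl⟩
  have hΩ : Cfsg.IsElementaryAbelian 2 Ω := by
    refine ⟨⟨⟨?_⟩⟩, ?_⟩
    · rintro ⟨_, x, hx, rfl⟩ ⟨_, y, hy, rfl⟩
      refine Subtype.ext ?_
      simp only [Subgroup.coe_mul]
      rw [← map_mul, ← map_mul,
        show x * y = y * x from congrArg Subtype.val (mul_comm' (⟨x, hx.1⟩ : A) ⟨y, hy.1⟩)]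
    · rintro _ ⟨x, hx, rfl⟩
      rw [← map_pow, hx.2, map_one]
  have h8 : 8 ≤ Nat.card Ω := by
    unfold Cfsg.PRankLE at hA3
    push Not at hA3
    obtain ⟨E, -, hE2, hEc⟩ := hA3
    have hle : E.map A.subtype ≤ Ω₁ := by
      rintro _ ⟨x, hx, rfl⟩
      exact ⟨x.2, by rw [← map_pow, hE2 x hx, map_one]⟩
    have h1 := Subgroup.card_le_of_le hle
    rw [card_map_of_injective A.subtype_injective] at h1
    rw [hΩdef, card_map_of_injective hfi]
    obtain ⟨n, hn⟩ := IsPGroup.iff_card.mp (S.isPGroup'.to_subgroup Ω₁)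
    have h5 : 4 < Nat.card Ω₁ := by omega
    rw [hn] at h5 ⊢
    have : 3 ≤ n := by
      by_contra h; push Not at h; interval_cases n <;> simp at h5
    exact le_trans (by norm_num) (Nat.pow_le_pow_right (by norm_num : 1 ≤ 2) this)
  have hnS : ∀ s ∈ (S' : Subgroup G), ∀ x ∈ Ω, s * x * s⁻¹ ∈ Ω := by
    intro s hs _ ⟨x, hx, hxe⟩
    subst hxe
    rw [hmap] at hs
    obtain ⟨s, hs, rfl⟩ := hs
    refine ⟨⟨s, hs⟩ * x * (⟨s, hs⟩)⁻¹, ⟨hAn.conj_mem x hx.1 _, ?_⟩, ?_⟩
    · rw [conj_pow, hx.2]; group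
    · simp [hf, mul_assoc]
  refine ⟨gen Ω, ?_, fun B hBS hB => ?_⟩
  · have hfun : Cfsg.IsSolvableSignalizerFunctor 2 Ω θ := by
      refine ⟨⟨fun a _ _ => cpc_le a, fun a _ _ => ?_, fun a ha _ b hb x hx => ?_, fun a ha ha1 b hb hb1 => ?_⟩,
        fun a _ _ => hodd _ (cpc_odd a)⟩
      · exact fun h => (Nat.not_even_iff_odd.mpr (cpc_odd a)) (even_iff_two_dvd.mpr h)
      · refine (mem_normalizer_iff.mp (le_normalizer_cpc a (mem_centralizer_singleton_iff.mpr ?_)) x).mp hx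
        haveI := hΩ.1
        exact congrArg Subtype.val (mul_comm' (⟨b, hb⟩ : Ω) ⟨a, ha⟩)
      · refine balance ⟨1, by rw [pow_one]; exact orderOf_of_sq (hΩ.2 a ha) ha1⟩
          (hcon b (orderOf_of_sq (hΩ.2 b hb) hb1)) ?_
        haveI := hΩ.1
        exact congrArg Subtype.val (mul_comm' (⟨a, ha⟩ : Ω) ⟨b, hb⟩)
    obtain ⟨W, hW, hle⟩ := hSFT Ω θ hΩ (le_trans (by norm_num) h8) hfun
    have hle' : gen Ω ≤ W := iSup_le fun ⟨a, ha, ha1⟩ => hle a ha ha1
    refine Nat.not_even_iff_odd.mp fun h => hW.2.1 ?_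
    exact (even_iff_two_dvd.mp h).trans (Subgroup.card_dvd_of_le hle')
  · have heq := gen_eq hcon S'.isPGroup' hΩ h8 hΩS hnS hBS hB
    refine ⟨heq, fun n hn => ?_⟩
    rw [heq]
    refine Subgroup.le_normalizer_iff.mpr ?_ hn
    intro m hm x hx
    have : (gen B).map (MulAut.conj m).toMonoidHom ≤ gen B := by
      rw [gen, Subgroup.map_iSup]
      refine iSup_le fun ⟨b, hb, hb1⟩ => ?_
      rintro _ ⟨y, hy, rfl⟩
      refine le_gen ((mem_normalizer_iff.mp hm b).mp hb) ?_ (conj_mem_cpc m hy)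
      simpa using hb1
    exact this ⟨x, hx, by simp⟩

end Cfsg.Agent.SigDown91
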